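import Groth.Agent.Lib.AlgLocFree9.Basic
import Groth.Agent.Lib.QCoh.GenericPoint
import Mathlib.Algebra.Category.ModuleCat.Sheaf.ChangeOfRings
import Mathlib.Algebra.Category.ModuleCat.EnoughInjectives
import Mathlib.Algebra.Category.ModuleCat.Injective
import Mathlib.RingTheory.Flat.Basic
import Mathlib.LinearAlgebra.TensorProduct.Tower
import Mathlib.Topology.Sheaves.SheafCondition.UniqueGluing

/-!
# Restriction of scalars along a flat central algebra preserves injective modules
-/

set_option autoImplicit false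
set_option linter.all false
set_option backward.isDefEq.respectTransparency false

universe u

open CategoryTheory CategoryTheory.Limits AlgebraicGeometry Opposite TopologicalSpace
open scoped TensorProduct
open GrothLib.AlgLocFree9 (aMod RS rgerm gs exists_e)

noncomputable section

namespace GrothLib.OrdInj9

/-- An injective module over a flat algebra is injective over the base. -/
theorem baer_of_flat {O B J : Type u} [CommRing O] [Ring B] [Algebra O B] [Module.Flat O B]
    [AddCommGroup J] [Module B J] [Module O J] [IsScalarTower O B J] [Module.Injective B J] :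
    Module.Baer O J := by
  intro a f
  haveI : SMulCommClass O B J := IsScalarTower.to_smulCommClass
  let g : B ⊗[O] a →ₗ[B] J :=
    TensorProduct.AlgebraTensorModule.lift (LinearMap.toSpanSingleton B (a →ₗ[O] J) f)
  let μ : B ⊗[O] a →ₗ[B] B :=
    TensorProduct.AlgebraTensorModule.lift
      (LinearMap.toSpanSingleton B (a →ₗ[O] B) ((Algebra.linearMap O B).comp a.subtype))
  have hμ : Function.Injective μ := by
    have h : ⇑μ = ⇑(TensorProduct.rid O B) ∘ ⇑(a.subtype.lTensor B) := by
      funext t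
      induction t using TensorProduct.induction_on with
      | zero => simp
      | add p q hp hq => simp only [Function.comp_apply, map_add] at hp hq ⊢; rw [hp, hq]
      | tmul b s => simp [μ, Algebra.smul_def, Algebra.commutes]
    rw [h]
    exact (TensorProduct.rid O B).injective.comp
      (Module.Flat.lTensor_preserves_injective_linearMap _ a.injective_subtype)
  obtain ⟨h, hh⟩ := Module.Injective.out μ hμ g
  refine ⟨(h.restrictScalars O).comp (Algebra.linearMap O B), fun r hr => ?_⟩
  have h1 := hh (1 ⊗ₜ ⟨r, hr⟩)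
  simpa [μ, g] using h1

variable {X : Scheme.{u}} (A : Sheaf (Opens.grothendieckTopology X) RingCat.{u}) (φ : X.ringCatSheaf ⟶ A)

theorem exists_hom (hcen : ∀ (U : (Opens X)ᵒᵖ) (s : X.ringCatSheaf.obj.obj U) (a : A.obj.obj U),
      φ.hom.app U s * a = a * φ.hom.app U s) (x : X) :
    ∃ ψ : X.presheaf.stalk x →+* RS A x,
      (∀ r a, ψ r * a = a * ψ r) ∧
      (∀ (U : X.Opens) (hx : x ∈ U) (r : Γ(X, U)),
        ψ (X.presheaf.germ U x hx r) = rgerm A x U hx (φ.hom.app (op U) r)) ∧
      ∃ e : (aMod A φ).presheaf.stalk x →+ RS A x, Function.Bijective e ∧ ∀ r p, e (r • p) = ψ r * e p := by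
  obtain ⟨e, he, hgerm⟩ := exists_e A φ x
  let one : (aMod A φ).presheaf.stalk x := (aMod A φ).presheaf.germ ⊤ x trivial (1 : A.obj.obj (op ⊤))
  let ψ : X.presheaf.stalk x → RS A x := fun r => e (r • one)
  have hψ : ∀ (U : X.Opens) (hx : x ∈ U) (r : Γ(X, U)),
      ψ (X.presheaf.germ U x hx r) = rgerm A x U hx (φ.hom.app (op U) r) := fun U hx r => by
    have h1 : one = (aMod A φ).presheaf.germ U x hx (1 : A.obj.obj (op U)) := by
      refine (TopCat.Presheaf.germ_res_apply (aMod A φ).presheaf (homOfLE le_top) x hx (1 : A.obj.obj (op ⊤))).symm.trans ?_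
      exact congrArg _ (map_one (A.obj.map (homOfLE (le_top (a := U))).op).hom)
    change e (X.presheaf.germ U x hx r • one) = _
    rw [h1]
    refine (congrArg e (gs (aMod A φ) x hx r (1 : A.obj.obj (op U))).symm).trans ?_
    refine (hgerm U hx _).trans (congrArg (rgerm A x U hx) ?_)
    exact mul_one (φ.hom.app (op U) r : A.obj.obj (op U))
  have hP : ∀ (r : X.presheaf.stalk x) (p : (aMod A φ).presheaf.stalk x), e (r • p) = ψ r * e p := by
    intro r p
    obtain ⟨U, hU, r, rfl⟩ := TopCat.Presheaf.exists_germ_eq X.presheaf r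
    obtain ⟨V, hV, a, rfl⟩ := TopCat.Presheaf.exists_germ_eq (aMod A φ).presheaf p
    rw [← TopCat.Presheaf.germ_res_apply X.presheaf (homOfLE inf_le_left) x (⟨hU, hV⟩ : x ∈ U ⊓ V) r,
      ← TopCat.Presheaf.germ_res_apply (aMod A φ).presheaf (homOfLE inf_le_right) x (⟨hU, hV⟩ : x ∈ U ⊓ V) a,
      ← gs, hψ, hgerm]
    refine Eq.trans ?_ (congrArg (_ * ·) (hgerm _ _ _).symm)
    exact map_mul (TopCat.Presheaf.germ (C := RingCat.{u}) (X := X.carrier) A.obj (U ⊓ V) x ⟨hU, hV⟩).hom _ _
  have h1 : ψ 1 = 1 := by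
    rw [← map_one (X.presheaf.germ ⊤ x trivial).hom, hψ]
    rw [map_one]
    exact map_one (TopCat.Presheaf.germ (C := RingCat.{u}) (X := X.carrier) A.obj ⊤ x trivial).hom
  refine ⟨⟨⟨⟨ψ, h1⟩, fun r r' => ?_⟩, ?_, fun r r' => ?_⟩, ?_, hψ, e, he, hP⟩
  · show e ((r * r') • one) = ψ r * ψ r'
    rw [mul_smul, hP]
  · show e ((0 : X.presheaf.stalk x) • one) = 0
    rw [zero_smul, map_zero]
  · show e ((r + r') • one) = _
    rw [add_smul, map_add]
  · intro r a
    show ψ r * a = a * ψ r
    obtain ⟨U, hU, r, rfl⟩ := TopCat.Presheaf.exists_germ_eq X.presheaf r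
    obtain ⟨V, hV, a, rfl⟩ := TopCat.Presheaf.exists_germ_eq (C := RingCat.{u}) (X := X.carrier) A.obj a
    rw [← TopCat.Presheaf.germ_res_apply X.presheaf (homOfLE inf_le_left) x (⟨hU, hV⟩ : x ∈ U ⊓ V) r,
      ← TopCat.Presheaf.germ_res_apply (C := RingCat.{u}) (X := X.carrier) A.obj (homOfLE inf_le_right) x (⟨hU, hV⟩ : x ∈ U ⊓ V) a,
      hψ]
    exact ((map_mul (TopCat.Presheaf.germ (C := RingCat.{u}) (X := X.carrier) A.obj (U ⊓ V) x ⟨hU, hV⟩).hom _ _).symm.trans
      (congrArg _ (hcen _ _ _))).trans (map_mul _ _ _)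

/-- The stalk of a sheaf of modules over a sheaf of rings. -/
abbrev Mst (M : SheafOfModules.{u} A) (x : X) : Type u :=
  TopCat.Presheaf.stalk (C := Ab.{u}) (X := X.carrier) M.val.presheaf x

/-- The germ in the stalk of a sheaf of modules. -/
abbrev mgerm (M : SheafOfModules.{u} A) (x : X) (U : X.Opens) (hx : x ∈ U) (m : M.val.obj (op U)) : Mst A M x :=
  TopCat.Presheaf.germ (C := Ab.{u}) (X := X.carrier) M.val.presheaf U x hx m

theorem mgerm_smul (M : SheafOfModules.{u} A) (x : X) (U : X.Opens) (hx : x ∈ U) (a : A.obj.obj (op U))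
    (m : M.val.obj (op U)) : mgerm A M x U hx (a • m) = rgerm A x U hx a • mgerm A M x U hx m :=
  PresheafOfModules.germ_ringCat_smul (R := A.obj) M.val x U hx a m

section Godement

variable (J : ∀ x : X, Type u) [∀ x, AddCommGroup (J x)] [∀ x, Module (RS A x) (J x)]

/-- Families of germs. -/
def gAb : (Opens X)ᵒᵖ ⥤ Ab.{u} where
  obj V := AddCommGrpCat.of (∀ x : V.unop, J x.1)
  map {U V} i := AddCommGrpCat.ofHom
    { toFun := fun v x => v ⟨x.1, i.unop.le x.2⟩
      map_zero' := rfl
      map_add' := fun _ _ => rfl }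
  map_id U := rfl
  map_comp i j := rfl

instance gSMul (V : (Opens X)ᵒᵖ) : Module (A.obj.obj V) ((gAb J).obj V) :=
  letI : ∀ x : V.unop, Module (A.obj.obj V) (J x.1) := fun x =>
    Module.compHom (J x.1) (TopCat.Presheaf.germ (C := RingCat.{u}) (X := X.carrier) A.obj V.unop x.1 x.2).hom
  inferInstanceAs (Module (A.obj.obj V) (∀ x : V.unop, J x.1))

/-- The presheaf of modules of families of germs. -/
def gPre : PresheafOfModules.{u} A.obj :=
  letI : ∀ V, Module (A.obj.obj V) ((gAb J).obj V) := gSMul A J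
  PresheafOfModules.ofPresheaf (gAb J) fun U V i a v => funext fun x => by
    exact congrArg (fun t : RS A x.1 => t • (show J x.1 from (show ∀ y : U.unop, J y.1 from v) ⟨x.1, i.unop.le x.2⟩))
      (TopCat.Presheaf.germ_res_apply (C := RingCat.{u}) (X := X.carrier) A.obj i.unop x.1 x.2 a).symm

theorem gPre_isSheaf : TopCat.Presheaf.IsSheaf (X := X.carrier) (C := Ab.{u}) (gPre A J).presheaf := by
  refine (TopCat.Presheaf.isSheaf_iff_isSheafUniqueGluing _).2 fun ι U sf hsf => ?_
  classical
  have hex : ∀ x : (iSup U : Opens X), ∃ i, x.1 ∈ U i := fun x => Opens.mem_iSup.1 x.2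
  let s : ∀ x : (iSup U : Opens X), J x.1 := fun x => (show ∀ y : U (hex x).choose, J y.1 from sf (hex x).choose)
    ⟨x.1, (hex x).choose_spec⟩
  refine ⟨s, fun i => funext fun y => ?_, fun t ht => funext fun x => ?_⟩
  · have h := congrFun (hsf (hex ⟨y.1, Opens.mem_iSup.2 ⟨i, y.2⟩⟩).choose i)
      ⟨y.1, (hex ⟨y.1, Opens.mem_iSup.2 ⟨i, y.2⟩⟩).choose_spec, y.2⟩
    exact h
  · exact congrFun (ht (hex x).choose) ⟨x.1, (hex x).choose_spec⟩

/-- The sheaf of modules of families of germs. -/
def gSh : SheafOfModules.{u} A := SheafOfModules.mk (gPre A J) (gPre_isSheaf A J)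

variable {A J}

/-- A family of maps on stalks gives a map into the sheaf of families of germs. -/
def toGSh (M : SheafOfModules.{u} A) (f : ∀ x, Mst A M x →ₗ[RS A x] J x) : M ⟶ gSh A J :=
  ⟨PresheafOfModules.homMk
    { app := fun V => AddCommGrpCat.ofHom
        { toFun := fun m => (fun x => f x.1 (mgerm A M x.1 V.unop x.2 m) : ∀ x : V.unop, J x.1)
          map_zero' := funext fun x => (congrArg (f x.1) (map_zero _)).trans (map_zero _)
          map_add' := fun a b => funext fun x => (congrArg (f x.1) (map_add _ a b)).trans (map_add _ _ _) }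
      naturality := fun U V i => AddCommGrpCat.ext fun m => funext fun x =>
        congrArg (f x.1) (TopCat.Presheaf.germ_res_apply (C := Ab.{u}) (X := X.carrier) M.val.presheaf i.unop x.1 x.2 m) }
    fun V a m => funext fun x => (congrArg (f x.1) (mgerm_smul A M x.1 V.unop x.2 a m)).trans ((f x.1).map_smul _ _)⟩

end Godement

theorem gSh_injective_app {J : ∀ x : X, Type u} [∀ x, AddCommGroup (J x)] [∀ x, Module (RS A x) (J x)]
    (M : SheafOfModules.{u} A) (f : ∀ x, Mst A M x →ₗ[RS A x] J x) (hf : ∀ x, Function.Injective (f x)) :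
    Mono (toGSh (J := J) M f) := by
  have hinj : ∀ V : (Opens X)ᵒᵖ, Function.Injective ((toGSh (J := J) M f).val.app V) := fun V a b h =>
    TopCat.Presheaf.section_ext (C := Ab.{u}) (X := X.carrier) ⟨M.val.presheaf, M.isSheaf⟩ V.unop a b
      fun y hy => hf y (congrFun h ⟨y, hy⟩)
  haveI : Mono (toGSh (J := J) M f).val :=
    PresheafOfModules.mono_of_injective (f := (toGSh (J := J) M f).val) hinj
  exact (SheafOfModules.forget A).mono_of_mono_map (show Mono (toGSh (J := J) M f).val from inferInstance)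

include φ in
/-- Restriction of scalars preserves injectives for a flat central algebra. -/
theorem injective_restrictScalars (hcen : ∀ (U : (Opens X)ᵒᵖ) (s : X.ringCatSheaf.obj.obj U) (a : A.obj.obj U),
      φ.hom.app U s * a = a * φ.hom.app U s)
    (hflat : ∀ x : X, Module.Flat (X.presheaf.stalk x) ((aMod A φ).presheaf.stalk x))
    (I : SheafOfModules.{u} A) [Injective I] :
    Injective ((SheafOfModules.restrictScalars φ).obj I) := by
  choose ψ hψc hψ e he hP using exists_hom A φ hcen
  let J : X → Type u := fun x => Injective.under (C := ModuleCat.{u} (RS A x)) (ModuleCat.of (RS A x) (Mst A I x))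
  letI : ∀ x, AddCommGroup (J x) := fun x => inferInstanceAs (AddCommGroup (Injective.under (C := ModuleCat.{u} (RS A x)) (ModuleCat.of (RS A x) (Mst A I x))))
  letI : ∀ x, Module (RS A x) (J x) := fun x => inferInstanceAs (Module (RS A x) (Injective.under (C := ModuleCat.{u} (RS A x)) (ModuleCat.of (RS A x) (Mst A I x))))
  let j : ∀ x, Mst A I x →ₗ[RS A x] J x := fun x => (Injective.ι (ModuleCat.of (RS A x) (Mst A I x))).hom
  have hj : ∀ x, Function.Injective (j x) := fun x => (ModuleCat.mono_iff_injective (Injective.ι (C := ModuleCat.{u} (RS A x)) (ModuleCat.of (RS A x) (Mst A I x)))).1 inferInstance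
  let ι := toGSh (J := J) I j
  haveI : Mono ι := gSh_injective_app A I j hj
  obtain ⟨r, hr⟩ := Injective.factors (𝟙 I) ι
  refine ⟨fun {N N'} g f _ => ?_⟩
  let RI : X.Modules := (SheafOfModules.restrictScalars φ).obj I
  letI : ∀ x : X, Module (X.presheaf.stalk x) (J x) := fun x => Module.compHom (J x) (ψ x)
  have hbaer : ∀ x, Module.Baer (X.presheaf.stalk x) (J x) := fun x => by
    letI : Algebra (X.presheaf.stalk x) (RS A x) := (ψ x).toAlgebra' (hψc x)
    haveI : IsScalarTower (X.presheaf.stalk x) (RS A x) (J x) := ⟨fun a b c => mul_smul (ψ x a) b c⟩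
    let E : (aMod A φ).presheaf.stalk x ≃ₗ[X.presheaf.stalk x] RS A x :=
      LinearEquiv.ofBijective { toFun := e x, map_add' := map_add _, map_smul' := fun a p => hP x a p } (he x)
    haveI : Module.Flat (X.presheaf.stalk x) (RS A x) := @Module.Flat.of_linearEquiv _ _ _ _ _ _ _ _ (hflat x) E.symm
    haveI : Module.Injective (RS A x) (J x) :=
      haveI : Injective (ModuleCat.of (RS A x) (J x)) :=
        inferInstanceAs (Injective (Injective.under (C := ModuleCat.{u} (RS A x)) (ModuleCat.of (RS A x) (Mst A I x))))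
      Module.injective_module_of_injective_object (RS A x) (J x)
    exact baer_of_flat (B := RS A x)
  have hsm : ∀ (x : X) (a : X.presheaf.stalk x) (m : RI.presheaf.stalk x),
      (a • m : RI.presheaf.stalk x) = (ψ x a • (show Mst A I x from m) : Mst A I x) := by
    intro x a m
    obtain ⟨U, hU, a, rfl⟩ := TopCat.Presheaf.exists_germ_eq X.presheaf a
    obtain ⟨V, hV, n, rfl⟩ := TopCat.Presheaf.exists_germ_eq RI.presheaf m
    rw [← TopCat.Presheaf.germ_res_apply X.presheaf (homOfLE inf_le_left) x (⟨hU, hV⟩ : x ∈ U ⊓ V) a,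
      ← TopCat.Presheaf.germ_res_apply RI.presheaf (homOfLE inf_le_right) x (⟨hU, hV⟩ : x ∈ U ⊓ V) n,
      ← gs, hψ]
    exact mgerm_smul A I x (U ⊓ V) ⟨hU, hV⟩ _ _
  let jO : ∀ x, RI.presheaf.stalk x →ₗ[X.presheaf.stalk x] J x := fun x =>
    { toFun := fun m => j x (show Mst A I x from m)
      map_add' := fun a b => map_add (j x) _ _
      map_smul' := fun a m => (congrArg (j x) (hsm x a m)).trans ((j x).map_smul _ _) }
  choose k hk using fun x => (hbaer x).extension_property (QCoh.stalkLin (X := X) f x)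
    (QCoh.stalkLin_injective (X := X) f x) ((jO x).comp (QCoh.stalkLin (X := X) g x))
  let R := SheafOfModules.restrictScalars φ
  let H : N' ⟶ R.obj (gSh A J) := ⟨PresheafOfModules.homMk
    { app := fun V => AddCommGrpCat.ofHom
        { toFun := fun m => (fun x => k x.1 (TopCat.Presheaf.germ (C := Ab.{u}) (X := X.carrier) N'.val.presheaf V.unop x.1 x.2 m) : ∀ x : V.unop, J x.1)
          map_zero' := funext fun x => (congrArg (k x.1) (map_zero _)).trans (map_zero _)
          map_add' := fun a b => funext fun x => (congrArg (k x.1) (map_add _ a b)).trans (map_add _ _ _) }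
      naturality := fun U V i => AddCommGrpCat.ext fun m => funext fun x =>
        congrArg (k x.1) (TopCat.Presheaf.germ_res_apply (C := Ab.{u}) (X := X.carrier) N'.val.presheaf i.unop x.1 x.2 m) }
    fun V a m => funext fun x => by
      refine (congrArg (k x.1) (gs (X := X) N' x.1 x.2 a m)).trans (((k x.1).map_smul _ _).trans ?_)
      exact congrArg (fun t : RS A x.1 => t • k x.1 (TopCat.Presheaf.germ (C := Ab.{u}) (X := X.carrier) N'.val.presheaf V.unop x.1 x.2 m))
        (hψ x.1 V.unop x.2 a)⟩
  refine ⟨H ≫ R.map r, ?_⟩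
  have hH : f ≫ H = g ≫ R.map ι := by
    refine SheafOfModules.hom_ext (PresheafOfModules.hom_ext fun V => ModuleCat.hom_ext (LinearMap.ext fun m => funext fun x => ?_))
    refine Eq.trans ?_ ((LinearMap.congr_fun (hk x.1) ((show X.Modules from N).presheaf.germ V.unop x.1 x.2 m)).trans ?_)
    · show k x.1 _ = k x.1 (QCoh.stalkLin (X := X) f x.1 _)
      rw [QCoh.stalkLin_germ]
      rfl
    · show j x.1 (QCoh.stalkLin (X := X) g x.1 _) = _
      rw [QCoh.stalkLin_germ]
      rfl
  rw [← Category.assoc, hH, Category.assoc, ← R.map_comp, hr, R.map_id, Category.comp_id]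

end GrothLib.OrdInj9
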